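import Cfsg.Agent.H176.IF.Cnt

/-!
# S5719: opposite pairs in a subgroup of a simply laced root group datum (helper496)

`K` any subgroup (`K = C(t)`).

* `neg_comm` : the elements of `Q_α` which commute with `X (-α)` are trivial;
* `Opp C K q a` : `P, P⁻ ≤ ⟨X x : x ⊥ C⟩ ∩ K`, `P ∩ P⁻ = 1`, both of order at least `q^a`;
* `Opp.step` : `Opp (α :: C) K q a`, `q^b ≤ |Q_{±α} ∩ K|` imply `Opp C K q (a + b)`;
* `Opp.card` : `q^(2a) ≤ |K|`.
-/

set_option autoImplicit false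
set_option linter.unusedSectionVars false

namespace Cfsg.Agent.H496.TStep

open CoxeterSystem Cfsg.Agent.ChevalleyStructure.CoxeterGeom Cfsg.Agent.Tits.Roots Cfsg.Agent.Tits.Core
  Cfsg.Agent.Tits.Exchange Cfsg.Agent.Nodes.Reps Cfsg.Agent.Nodes.BNOf Cfsg.Agent.Nodes.StabComb
  Cfsg.Agent.Nodes.Bruhat Cfsg.Agent.Nodes.OppDec Cfsg.Agent.Nodes.PosPair Cfsg.Agent.Nodes.Coroot
  Cfsg.Agent.Nodes.Unique Cfsg.Agent.KFacts.RgdSL Cfsg.Agent.H557.LrSgn Cfsg.Agent.H190.IF Cfsg.Agent.H176.IFe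
open scoped commutatorElement

variable {I W Y : Type*} [Fintype I] [DecidableEq I] [Group W] [Group Y] {M : CoxeterMatrix I}
  {cs : CoxeterSystem M W} {A : I → I → ℤ} {h : IsCartan M A} {p : ℕ} {T : Subgroup Y} {n : I → Y}
  {X : (I → ℤ) → Subgroup Y}

/-- an opposite pair in `K` -/
def Opp (cs : CoxeterSystem M W) (h : IsCartan M A) (X : (I → ℤ) → Subgroup Y) (C : List (I → ℤ)) (K : Subgroup Y)
    (q a : ℕ) : Prop :=
  ∃ P Pn : Subgroup Y, P ≤ RGD.Sup X (EC cs h C) ∧ Pn ≤ RGD.Sup X (EC cs h C) ∧ P ≤ K ∧ Pn ≤ K ∧ P ⊓ Pn = ⊥ ∧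
    q ^ a ≤ Nat.card P ∧ q ^ a ≤ Nat.card Pn

theorem Opp.zero (C : List (I → ℤ)) (K : Subgroup Y) (q : ℕ) : Opp cs h X C K q 0 :=
  ⟨⊥, ⊥, bot_le, bot_le, bot_le, bot_le, inf_idem _, by rw [Subgroup.card_bot, pow_zero],
    by rw [Subgroup.card_bot, pow_zero]⟩

/-- the product of two subgroups with trivial intersection -/
theorem card_mul_le {G : Type*} [Group G] [Finite G] {P Q K : Subgroup G} (hP : P ≤ K) (hQ : Q ≤ K) (h : P ⊓ Q = ⊥) :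
    Nat.card P * Nat.card Q ≤ Nat.card K := by
  rw [← Nat.card_prod]
  refine Nat.card_le_card_of_injective (fun x : P × Q => (⟨x.1 * x.2, mul_mem (hP x.1.2) (hQ x.2.2)⟩ : K)) ?_
  rintro ⟨⟨a, ha⟩, ⟨b, hb⟩⟩ ⟨⟨a', ha'⟩, ⟨b', hb'⟩⟩ hab
  have h1 : a * b = a' * b' := congrArg Subtype.val hab
  have h2 : a'⁻¹ * a = b' * b⁻¹ := by
    rw [inv_mul_eq_iff_eq_mul, ← mul_assoc, ← h1, mul_inv_cancel_right]
  have h3 : a'⁻¹ * a ∈ P ⊓ Q := Subgroup.mem_inf.2 ⟨mul_mem (inv_mem ha') ha, by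
    rw [h2]; exact mul_mem hb' (inv_mem hb)⟩
  rw [h, Subgroup.mem_bot] at h3
  have h4 : a = a' := (inv_mul_eq_one.1 h3).symm
  have h5 : b = b' := by
    rw [h3] at h2
    exact (mul_inv_eq_one.1 h2.symm).symm
  subst h4 h5
  rfl

theorem Opp.card [Finite Y] {K : Subgroup Y} {C : List (I → ℤ)} {q a : ℕ} (H : Opp cs h X C K q a) :
    q ^ (2 * a) ≤ Nat.card K := by
  obtain ⟨P, Pn, -, -, h3, h4, h5, h6, h7⟩ := H
  calc q ^ (2 * a) = q ^ a * q ^ a := by ring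
    _ ≤ Nat.card P * Nat.card Pn := Nat.mul_le_mul h6 h7
    _ ≤ _ := card_mul_le h3 h4 h5

section

variable [Finite W] [Finite Y] (R : RGD cs h p T n X) (hs : SL cs h)
  (hab : ∀ α, IsRoot cs h α → ∀ u ∈ X α, ∀ v ∈ X α, u * v = v * u) {q : ℕ}
  (hcard : ∀ α, IsRoot cs h α → Nat.card (X α) = q) (hodd : Odd q)

include R hs hab hcard hodd

/-- the elements of `Q_α` which commute with `X (-α)` are trivial -/
theorem neg_comm {α : I → ℤ} {z : Y} (hz : Inv2 cs h T X α z) {S : Finset (I → ℤ)} {o : (I → ℤ) → (I → ℤ)}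
    (H : H203.IF.Heis (X α) X S o) (hS : ∀ β ∈ S, IsRoot cs h β ∧ cpr cs h β α = 1)
    (hk : Odd (Nat.card (H203.IF.QQ (X α) X S))) {g : Y}
    (hg : g ∈ H203.IF.QQ (X α) X S) (hc : ∀ v ∈ X (-α), g * v = v * g) : g = 1 := by
  have hα := hz.root
  obtain ⟨v, hv, hv1⟩ : ∃ v ∈ X (-α), v ≠ 1 := by
    by_contra hcon
    push Not at hcon
    exact X_ne_bot R hα.neg ((Subgroup.eq_bot_iff_forall _).2 hcon)
  obtain ⟨u, hu, hu1⟩ : ∃ u ∈ X α, u ≠ 1 := by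
    by_contra hcon
    push Not at hcon
    exact X_ne_bot R hα ((Subgroup.eq_bot_iff_forall _).2 hcon)
  have h1 : z ∈ Subgroup.centralizer ({g} : Set Y) := by
    refine ((Subgroup.closure_le _).2 ?_) (hz.opp u hu v hv hu1 hv1)
    rintro x (rfl | rfl)
    · exact Subgroup.mem_centralizer_singleton_iff.2 (H.zQ hu hg)
    · exact Subgroup.mem_centralizer_singleton_iff.2 (hc x hv).symm
  have h2 : z * g = g * z := Subgroup.mem_centralizer_singleton_iff.1 h1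
  have h3 := inv_mod hz H hS hg
  rw [h2, mul_inv_cancel_right] at h3
  have h4 : g ∈ X α := mem_of_sq (Odd.of_dvd_nat hk (Subgroup.orderOf_dvd_natCard _ hg)) h3
  obtain ⟨a, ha, b, hb, m, e, hm, -, -⟩ := cj_mu R hα hv hv1
  have h5 : m * g = g * m := by
    have e1 := H.zQ ha hg
    have e2 := H.zQ hb hg
    have e3 := hc v hv
    rw [e]
    calc a * v * b * g = a * v * (b * g) := by group
      _ = a * (v * g) * b := by rw [e2]; group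
      _ = (a * g) * v * b := by rw [← e3]; group
      _ = g * (a * v * b) := by rw [e1]; group
  have h6 : g ∈ X (-α) := by
    rw [← hm]
    refine ⟨g, h4, ?_⟩
    show m * g * m⁻¹ = g
    rw [h5, mul_inv_cancel_right]
  exact low_not_norm R hα h6 (Subgroup.le_normalizer h4)

/-- the elements of `⟨X x : x ⊥ α⟩` commute with `X α` -/
theorem comm_EC {α : I → ℤ} (hα : IsRoot cs h α) {C : List (I → ℤ)} {l v : Y}
    (hl : l ∈ RGD.Sup X (EC cs h (α :: C))) (hv : v ∈ X α ∨ v ∈ X (-α)) : l * v = v * l := by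
  have h1 : RGD.Sup X (EC cs h (α :: C)) ≤ Subgroup.centralizer ({v} : Set Y) := by
    refine RGD.Sup_le fun x hx u hu => ?_
    have hx0 := hx.2 α List.mem_cons_self
    rw [Subgroup.mem_centralizer_singleton_iff]
    rcases hv with hv | hv
    · exact comm_ge R hs hab hx.1 hα (by rw [hx0]) hu hv
    · exact comm_ge R hs hab hx.1 hα.neg (by rw [cpr_neg_right cs h x hα, hx0, neg_zero]) hu hv
  exact Subgroup.mem_centralizer_singleton_iff.1 (h1 hl)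

/-- **the step** -/
theorem Opp.step {C : List (I → ℤ)} (hC : ∀ c ∈ C, IsRoot cs h c) {α : I → ℤ} (hα : α ∈ EC cs h C)
    (S₁ S₂ : Finset (I → ℤ)) (hS₁ : ∀ β, β ∈ S₁ ↔ β ∈ EC cs h C ∧ cpr cs h β α = 1)
    (hS₂ : ∀ β, β ∈ S₂ ↔ β ∈ EC cs h C ∧ cpr cs h β (-α) = 1) {z : Y} (hz : Inv2 cs h T X α z) {K : Subgroup Y}
    {a b : ℕ} (hb₁ : q ^ b ≤ Nat.card (H203.IF.QQ (X α) X S₁ ⊓ K : Subgroup Y))
    (hb₂ : q ^ b ≤ Nat.card (H203.IF.QQ (X (-α)) X S₂ ⊓ K : Subgroup Y)) (H : Opp cs h X (α :: C) K q a) :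
    Opp cs h X C K q (a + b) := by
  classical
  obtain ⟨P, Pn, hPL, hPnL, hPK, hPnK, hPP, hPa, hPna⟩ := H
  have hαr := hα.1
  set L := RGD.Sup X (EC cs h (α :: C)) with hL
  have hmk : ∀ α', IsRoot cs h α' → α' ∈ EC cs h C → (∀ x, IsRoot cs h x → cpr cs h x α = 0 → cpr cs h x α' = 0) →
      ∀ S : Finset (I → ℤ), (∀ β, β ∈ S ↔ β ∈ EC cs h C ∧ cpr cs h β α' = 1) →
      H203.IF.Heis (X α') X S (fun β => α' - β) ∧ H203.IF.QQ (X α') X S ≤ RGD.Sup X (EC cs h C) ∧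
      Odd (Nat.card (H203.IF.QQ (X α') X S)) ∧
      (∀ l ∈ L, ∀ u ∈ H203.IF.QQ (X α') X S, l * u * l⁻¹ ∈ H203.IF.QQ (X α') X S) := by
    intro α' hα'r hα' hperp S hS
    have H : H203.IF.Heis (X α') X S (fun β => α' - β) := heis_root R hs hab hα'r S
      (fun β hβ => ⟨((hS β).1 hβ).1.1, ((hS β).1 hβ).2⟩) (fun β hβ => by
        obtain ⟨⟨h1, h2⟩, h3⟩ := (hS β).1 hβ
        rw [hS]
        have e : α' - β = α' + (-1 : ℤ) • β := by rw [neg_one_smul, sub_eq_add_neg]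
        refine ⟨⟨isRoot_sub hα'r h1 (by rw [hs α' β hα'r h1, h3]), fun c hc => ?_⟩, ?_⟩
        · rw [e, cpr_add cs h _ _ (hC c hc), cpr_smul cs h _ _ (hC c hc), hα'.2 c hc, h2 c hc]
          norm_num
        · rw [e, cpr_add cs h _ _ hα'r, cpr_smul cs h _ _ hα'r, cpr_self cs h hα'r, h3]
          norm_num)
    refine ⟨H, H203.IF.Heis.QQ_le (RGD.le_Sup hα') fun β hβ => RGD.le_Sup ((hS β).1 hβ).1, ?_, ?_⟩
    · rw [card_QQ' H (X_ne_bot R hα'r) (hcard α' hα'r) (fun β hβ => hcard β ((hS β).1 hβ).1.1)]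
      exact hodd.pow
    · intro l hl u hu
      refine norm_QQ R hs hab hα'r S (fun β hβ => ⟨((hS β).1 hβ).1.1, ((hS β).1 hβ).2⟩) ?_ ?_ hl hu
      · intro γ hγ
        exact ⟨hγ.1, hperp γ hγ.1 (hγ.2 α List.mem_cons_self)⟩
      · intro γ hγ β hβ hγβ
        obtain ⟨⟨h1, h2⟩, h3⟩ := (hS β).1 hβ
        rw [hS]
        refine ⟨⟨hγβ, fun c hc => ?_⟩, ?_⟩
        · rw [cpr_add cs h _ _ (hC c hc), hγ.2 c (List.mem_cons_of_mem _ hc), h2 c hc, add_zero]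
        · rw [cpr_add cs h _ _ hα'r, hperp γ hγ.1 (hγ.2 α List.mem_cons_self), h3, zero_add]
  have hαn : -α ∈ EC cs h C := ⟨hαr.neg, fun c hc => by
    rw [cpr_neg_left _ (hC c hc), hα.2 c hc, neg_zero]⟩
  obtain ⟨H₁, hL₁, hk₁, hn₁⟩ := hmk α hαr hα (fun x _ hx => hx) S₁ hS₁
  obtain ⟨H₂, hL₂, hk₂, hn₂⟩ := hmk (-α) hαr.neg hαn (fun x _ hx => by
    rw [cpr_neg_right cs h x hαr, hx, neg_zero]) S₂ hS₂
  -- `Q_α ∩ Q_{-α} L = 1`
  have key₁ : ∀ g ∈ H203.IF.QQ (X α) X S₁, ∀ b ∈ H203.IF.QQ (X (-α)) X S₂, ∀ l ∈ L, g = b * l → g = 1 := by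
    intro g hg b hb l hl e
    refine neg_comm R hs hab hcard hodd hz H₁ (fun β hβ => ⟨((hS₁ β).1 hβ).1.1, ((hS₁ β).1 hβ).2⟩) hk₁ hg ?_
    intro v hv
    have e1 := comm_EC R hs hab hcard hodd hαr hl (Or.inr hv)
    have e2 := H₂.zQ hv hb
    rw [e]
    calc b * l * v = b * (v * l) := by rw [← e1]; group
      _ = v * b * l := by rw [e2]; group
      _ = _ := by group
  have key₂ : ∀ g ∈ H203.IF.QQ (X (-α)) X S₂, g ∈ L → g = 1 := by
    intro g hg hl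
    refine neg_comm R hs hab hcard hodd (Inv2.neg hz) H₂ (fun β hβ => ⟨((hS₂ β).1 hβ).1.1, ((hS₂ β).1 hβ).2⟩) hk₂ hg ?_
    intro v hv
    rw [neg_neg] at hv
    exact comm_EC R hs hab hcard hodd hαr hl (Or.inl hv)
  have key₃ : ∀ g ∈ H203.IF.QQ (X α) X S₁, g ∈ L → g = 1 := fun g hg hl =>
    key₁ g hg 1 (one_mem _) g hl (one_mul g).symm
  have hLC : L ≤ RGD.Sup X (EC cs h C) := RGD.Sup_mono (EC_mono α C)
  have hmul : ∀ (Q P' : Subgroup Y), P' ≤ K → (∀ l ∈ P', ∀ u ∈ Q, l * u * l⁻¹ ∈ Q) →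
      ∀ x ∈ (Q ⊓ K) ⊔ P', ∃ b ∈ Q ⊓ K, ∃ l ∈ P', x = b * l := by
    intro Q P' hP'K hn x hx
    have hnn : P' ≤ Subgroup.normalizer ((Q ⊓ K : Subgroup Y) : Set Y) := by
      intro l hl
      rw [Subgroup.mem_normalizer_iff]
      intro u
      constructor
      · intro hu
        obtain ⟨hu1, hu2⟩ := Subgroup.mem_inf.1 hu
        exact Subgroup.mem_inf.2 ⟨hn l hl u hu1, mul_mem (mul_mem (hP'K hl) hu2) (inv_mem (hP'K hl))⟩
      · intro hu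
        have e : u = l⁻¹ * (l * u * l⁻¹) * l⁻¹⁻¹ := by group
        obtain ⟨hu1, hu2⟩ := Subgroup.mem_inf.1 hu
        have hl1 : l⁻¹ ∈ P' := inv_mem hl
        rw [e]
        exact Subgroup.mem_inf.2 ⟨hn _ hl1 _ hu1, mul_mem (mul_mem (hP'K hl1) hu2) (inv_mem (hP'K hl1))⟩
    have h2 : x ∈ (((Q ⊓ K) ⊔ P' : Subgroup Y) : Set Y) := hx
    rw [Subgroup.coe_mul_of_right_le_normalizer_left _ _ hnn] at h2
    obtain ⟨b, hb, l, hl, e⟩ := Set.mem_mul.1 h2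
    exact ⟨b, hb, l, hl, e.symm⟩
  refine ⟨(H203.IF.QQ (X α) X S₁ ⊓ K) ⊔ P, (H203.IF.QQ (X (-α)) X S₂ ⊓ K) ⊔ Pn,
    sup_le (inf_le_left.trans hL₁) (hPL.trans hLC), sup_le (inf_le_left.trans hL₂) (hPnL.trans hLC),
    sup_le inf_le_right hPK, sup_le inf_le_right hPnK, ?_, ?_, ?_⟩
  · rw [Subgroup.eq_bot_iff_forall]
    intro x hx
    obtain ⟨hx1, hx2⟩ := Subgroup.mem_inf.1 hx
    obtain ⟨b, hb, l, hl, e⟩ := hmul _ _ hPK (fun l hl => hn₁ l (hPL hl)) x hx1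
    obtain ⟨b', hb', l', hl', e'⟩ := hmul _ _ hPnK (fun l hl => hn₂ l (hPnL hl)) x hx2
    have h1 : b = b' * (l' * l⁻¹) := by
      rw [← mul_assoc, ← e', e, mul_inv_cancel_right]
    have h2 : b = 1 := key₁ b hb.1 b' hb'.1 _ (mul_mem (hPnL hl') (inv_mem (hPL hl))) h1
    rw [h2] at h1
    have h3 : b' = l * l'⁻¹ := by
      rw [eq_mul_inv_iff_mul_eq, ← e', e, h2, one_mul]
    have h4 : b' = 1 := key₂ b' hb'.1 (by rw [h3]; exact mul_mem (hPL hl) (inv_mem (hPnL hl')))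
    rw [h2, one_mul] at e
    rw [h4, one_mul] at e'
    have h5 : x ∈ P ⊓ Pn := Subgroup.mem_inf.2 ⟨by rw [e]; exact hl, by rw [e']; exact hl'⟩
    rwa [hPP, Subgroup.mem_bot] at h5
  · have h1 := card_mul_le (K := (H203.IF.QQ (X α) X S₁ ⊓ K) ⊔ P) le_sup_right le_sup_left (P := P)
      (Q := H203.IF.QQ (X α) X S₁ ⊓ K) (by
        rw [Subgroup.eq_bot_iff_forall]
        intro x hx
        obtain ⟨hx1, hx2⟩ := Subgroup.mem_inf.1 hx
        exact key₃ x hx2.1 (hPL hx1))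
    calc q ^ (a + b) = q ^ a * q ^ b := pow_add _ _ _
      _ ≤ _ := Nat.mul_le_mul hPa hb₁
      _ ≤ _ := h1
  · have h1 := card_mul_le (K := (H203.IF.QQ (X (-α)) X S₂ ⊓ K) ⊔ Pn) le_sup_right le_sup_left (P := Pn)
      (Q := H203.IF.QQ (X (-α)) X S₂ ⊓ K) (by
        rw [Subgroup.eq_bot_iff_forall]
        intro x hx
        obtain ⟨hx1, hx2⟩ := Subgroup.mem_inf.1 hx
        exact key₂ x hx2.1 (hPnL hx1))
    calc q ^ (a + b) = q ^ a * q ^ b := pow_add _ _ _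
      _ ≤ _ := Nat.mul_le_mul hPna hb₂
      _ ≤ _ := h1

end

end Cfsg.Agent.H496.TStep
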